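import Groth.Agent.Torsor.Points
import Mathlib.AlgebraicGeometry.Morphisms.Finite
import Mathlib.AlgebraicGeometry.ResidueField
import Mathlib.RingTheory.TensorProduct.Maps

/-! # Torsors under infinitesimal group schemes over a field -/

set_option autoImplicit false
universe u

open CategoryTheory MonoidalCategory CartesianMonoidalCategory AlgebraicGeometry
open scoped MonObj TensorProduct

noncomputable section

namespace Groth.Agent.InfTorsor

set_option backward.isDefEq.respectTransparency false in
/-- A one-point finite group scheme has at most one point with values in a field. -/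
theorem points_unique {k : Type u} [Field k] (I : Over (Spec (CommRingCat.of k))) [GrpObj I] [IsFinite I.hom]
    [Subsingleton ↥(I.left)] {Ω : Type u} [Field Ω] (t : Spec (CommRingCat.of Ω) ⟶ Spec (CommRingCat.of k))
    (g₁ g₂ : Over.mk t ⟶ I) : g₁ = g₂ := by
  haveI : IsAffine I.left := isAffine_of_isAffineHom I.hom
  let e₀ : Spec (CommRingCat.of k) ⟶ I.left := η[I].left
  have he₀ : e₀ ≫ I.hom = 𝟙 _ := Over.w η[I]
  refine Over.OverMorphism.ext (ext_of_isAffine ?_)
  ext a
  let b : Γ(I.left, ⊤) := a - I.hom.appTop (e₀.appTop a)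
  have hb : e₀.appTop b = 0 := by
    have h1 : I.hom.appTop ≫ e₀.appTop = 𝟙 _ := by rw [← Scheme.Hom.comp_appTop, he₀]; rfl
    have h2 := congr($(h1).hom (e₀.appTop a))
    simp only [b, map_sub]
    rw [sub_eq_zero]
    exact h2.symm
  have hnil : IsNilpotent b := by
    rw [Scheme.isNilpotent_iff_basicOpen_eq_bot_of_isCompact isCompact_univ, eq_bot_iff]
    intro z hz
    have htop : I.left.basicOpen b = ⊤ :=
      top_le_iff.mp fun w _ => (Subsingleton.elim z w) ▸ hz
    have hu : IsUnit b := (RingedSpace.isUnit_of_isUnit_germ I.left.toRingedSpace _ b fun w hw =>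
      (I.left.mem_basicOpen b w hw).mp (by rw [htop]; trivial))
    exact absurd (hb ▸ hu.map e₀.appTop.hom) not_isUnit_zero
  haveI : _root_.IsReduced Γ(Spec (CommRingCat.of Ω), ⊤) :=
    isReduced_of_injective (Scheme.ΓSpecIso (CommRingCat.of Ω)).commRingCatIsoToRingEquiv.toRingHom
      (Scheme.ΓSpecIso (CommRingCat.of Ω)).commRingCatIsoToRingEquiv.injective
  have hz : ∀ g : Over.mk t ⟶ I, g.left.appTop a = t.appTop (e₀.appTop a) := fun g => by
    let gl : Spec (CommRingCat.of Ω) ⟶ I.left := g.left
    have hw : gl ≫ I.hom = t := Over.w g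
    have h1 : gl.appTop b = 0 := (hnil.map gl.appTop.hom).eq_zero
    have h2 : gl.appTop (I.hom.appTop (e₀.appTop a)) = t.appTop (e₀.appTop a) := by rw [← hw]; rfl
    show gl.appTop a = _
    rw [← h2, ← sub_eq_zero, ← map_sub]
    exact h1
  exact (hz g₁).trans (hz g₂).symm

theorem torsor_points_unique {k : Type u} [Field k] {I E : Over (Spec (CommRingCat.of k))} [GrpObj I]
    [IsFinite I.hom] [Subsingleton ↥(I.left)] {a : AlgGrp.Action I E} (hE : NonAbH1.IsPseudoTorsorSch a)
    {Ω : Type u} [Field Ω] (t : Spec (CommRingCat.of Ω) ⟶ Spec (CommRingCat.of k))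
    (s₁ s₂ : Over.mk t ⟶ E) : s₁ = s₂ := by
  obtain ⟨g, hg, -⟩ := (Torsor.isPseudoTorsor_iff a).mp hE _ s₁ s₂
  rw [points_unique I t g 1, Torsor.one_smul] at hg
  exact hg

theorem mem_range_of_tmul_eq {k L : Type u} [Field k] [Field L] [Algebra k L] {y : L}
    (h : y ⊗ₜ[k] (1 : L) = 1 ⊗ₜ y) : y ∈ Set.range (algebraMap k L) := by
  obtain ⟨π, hπ⟩ := LinearMap.exists_leftInverse_of_injective (Algebra.linearMap k L)
    (LinearMap.ker_eq_bot.mpr (algebraMap k L).injective)
  have h1 : π 1 = 1 := by
    have := LinearMap.congr_fun hπ (1 : k)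
    simpa using this
  have h2 := congrArg (fun z => TensorProduct.lid k L (TensorProduct.map π LinearMap.id z)) h
  simp only [TensorProduct.map_tmul, LinearMap.id_coe, id_eq, TensorProduct.lid_tmul, h1, one_smul] at h2
  exact ⟨π y, by rw [Algebra.algebraMap_eq_smul_one]; exact h2⟩

set_option backward.isDefEq.respectTransparency false in
/-- An infinitesimal pseudo-torsor with a point in a separable extension has a rational point. -/
theorem exists_section {k L : Type u} [Field k] [Field L] [Algebra k L] [IsReduced (L ⊗[k] L)]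
    {I E : Over (Spec (CommRingCat.of k))} [GrpObj I]
    [IsFinite I.hom] [Subsingleton ↥(I.left)] {a : AlgGrp.Action I E} (hE : NonAbH1.IsPseudoTorsorSch a)
    (s : Spec (CommRingCat.of L) ⟶ E.left)
    (hs : s ≫ E.hom = Spec.map (CommRingCat.ofHom (algebraMap k L))) :
    ∃ σ : Spec (CommRingCat.of k) ⟶ E.left, σ ≫ E.hom = 𝟙 _ := by
  let x := s (IsLocalRing.closedPoint L)
  let φ : E.left.residueField x ⟶ CommRingCat.of L := E.left.descResidueField (Scheme.stalkClosedPointTo s)
  have hφ : Spec.map φ ≫ E.left.fromSpecResidueField x = s :=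
    Scheme.descResidueField_stalkClosedPointTo_fromSpecResidueField L E.left s
  let c : CommRingCat.of k ⟶ E.left.residueField x := Spec.preimage (E.left.fromSpecResidueField x ≫ E.hom)
  have hcφ : c ≫ φ = CommRingCat.ofHom (algebraMap k L) := by
    apply Spec.map_injective
    rw [Spec.map_comp, Spec.map_preimage, ← hs, ← hφ, Category.assoc]
  have hr : ∀ z, φ.hom z ∈ Set.range (algebraMap k L) := fun z => by
    refine mem_range_of_tmul_eq (sub_eq_zero.mp (IsReduced.eq_zero _ (nilpotent_iff_mem_prime.mpr fun P hP => ?_)))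
    haveI := hP
    let q := algebraMap (L ⊗[k] L) P.ResidueField
    let ψ₁ : CommRingCat.of L ⟶ CommRingCat.of P.ResidueField :=
      CommRingCat.ofHom (q.comp Algebra.TensorProduct.includeLeftRingHom)
    let ψ₂ : CommRingCat.of L ⟶ CommRingCat.of P.ResidueField :=
      CommRingCat.ofHom (q.comp (Algebra.TensorProduct.includeRight : L →ₐ[k] L ⊗[k] L).toRingHom)
    let t := CommRingCat.ofHom (algebraMap k L) ≫ ψ₁
    have ht : CommRingCat.ofHom (algebraMap k L) ≫ ψ₂ = t := by
      ext r
      exact congrArg q ((Algebra.TensorProduct.includeRight : L →ₐ[k] L ⊗[k] L).commutes r)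
    have heq := congrArg CommaMorphism.left (torsor_points_unique hE (Spec.map t)
      (Over.homMk (Spec.map ψ₁ ≫ s) (by simp [hs, t]))
      (Over.homMk (Spec.map ψ₂ ≫ s) (by simp [hs, ← ht])))
    change Spec.map ψ₁ ≫ s = Spec.map ψ₂ ≫ s at heq
    rw [← hφ, ← Category.assoc, ← Category.assoc, cancel_mono, ← Spec.map_comp, ← Spec.map_comp] at heq
    have h3 := congr($(Spec.map_injective heq).hom z)
    rw [← P.algebraMap_residueField_eq_zero, map_sub, sub_eq_zero]
    exact h3
  have hc : Function.Bijective c.hom := by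
    refine ⟨c.hom.injective, fun z => ?_⟩
    obtain ⟨r, hr'⟩ := hr z
    refine ⟨r, φ.hom.injective ?_⟩
    rw [← hr']
    exact congr($(hcφ).hom r)
  haveI : IsIso c := (ConcreteCategory.isIso_iff_bijective c).mpr hc
  refine ⟨Spec.map (inv c) ≫ E.left.fromSpecResidueField x, ?_⟩
  rw [Category.assoc, show E.left.fromSpecResidueField x ≫ E.hom = Spec.map c from (Spec.map_preimage _).symm,
    ← Spec.map_comp, IsIso.hom_inv_id, Spec.map_id]

end Groth.Agent.InfTorsor
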